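import Cfsg.Agent.Lib.DefectFull.Transport
import Cfsg.Agent.Lib.DefectFull.Rad
import Cfsg.Agent.Lib.Chev.DefectGroups
import Cfsg.Prelude.Def_LieTypeChar

/-!
The blocks of the exceptional Chevalley groups in their own characteristic.
-/

set_option autoImplicit false

namespace CfsgLib.DefectFull

open Cfsg Cfsg.Lie CfsgLib.Chev CfsgLib.Blocks

universe u

variable {p : ℕ} [Fact p.Prime]

theorem allFull_chev {D : ChevalleyDatum}
    (hD : D ∈ [chevG2, chevB2, chevD4, chevF4, chevE6, chevE7, chevE8])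
    (hadj : ∀ K : Finset (Fin D.rank), K.Nonempty → K ≠ Finset.univ →
      ∃ i ∉ K, ∃ k ∈ K, cm D i k ≠ 0)
    (F : Type) [Field F] [Finite F] [CharP F p] : AllFull p ↥(D.group F) := by
  intro M hM B hB
  haveI : M.IsMaximal := hM.2.1
  obtain ⟨T, hc, hcomm⟩ := exists_checked' hD
  have hp := (Fact.out : p.Prime)
  obtain ⟨E, hE⟩ := exists_defectGroup hM hB
  have hcard := card_defectGroup hM hB hE
  rcases defect_cases hc hcomm hadj hM hB hE with rfl | h
  · rw [Subgroup.card_bot, eq_comm, Nat.pow_eq_one] at hcard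
    exact Or.inl (hcard.resolve_left hp.ne_one)
  · obtain ⟨P⟩ : Nonempty (Sylow p ↥(D.group F)) := inferInstance
    have h1 := (Sylow.card_eq_multiplicity P).symm.trans (card_defectGroup hM hB (h P))
    exact Or.inr (Nat.pow_right_injective hp.two_le h1).symm

theorem allFull_exceptional {G : Type u} [Group G] [Finite G]
    (hG : IsExceptionalChevChar p G) : AllFull p G := by
  obtain ⟨F, _, _, _, ⟨-, ⟨e⟩⟩ | ⟨⟨e⟩⟩ | ⟨⟨e⟩⟩ | ⟨⟨e⟩⟩ | ⟨⟨e⟩⟩⟩ := hG
  · exact (allFull_chev (by simp) (by decide +kernel) F).of_mulEquiv e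
  · exact (allFull_chev (by simp) (by decide +kernel) F).of_mulEquiv e
  · exact (allFull_chev (by simp) (by decide +kernel) F).of_mulEquiv e
  · exact (allFull_chev (by simp) (by decide +kernel) F).of_mulEquiv e
  · exact (allFull_chev (by simp) (by decide +kernel) F).of_mulEquiv e

theorem allFull_of_goodRad {G : Type u} [Group G] [Finite G] (h : GoodRad p G) : AllFull p G :=
  fun _ hM _ hB => haveI := hM.2.1; CfsgLib.DefectZeroTrace.defect_zero_or_full hM hB h

end CfsgLib.DefectFull
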