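import Cfsg.Agent.Lib.DefectFull.Twisted
import Cfsg.Agent.Lib.Twisted.F4Simple

/-!
The blocks of 2F4(q) in characteristic 2.
-/

set_option autoImplicit false
set_option maxRecDepth 4000

namespace CfsgLib.DefectFull

open Cfsg Cfsg.Lie CfsgLib.Chev CfsgLib.ReeF4 CfsgLib.ReeF4Out

universe u

variable {K : Type*} [Field K] [Fintype K] {m : ℕ} {σ : MulAut ↥(chevF4.group K)}

theorem allFull_reeF4 (hσ : IsSigma m σ) : AllFull 2 ↥(G1 K m) := by
  haveI : Fact (Nat.Prime 2) := ⟨Nat.prime_two⟩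
  haveI : CharP K 2 := CfsgLib.ReeF4.charP_two hσ.card
  obtain ⟨P, hP⟩ := exists_hasBN hσ
  have hti : IsTI 2 P (ReeF4Out.Uw K m) :=
    { le := hP.B ▸ U_le_B hσ
      conj := fun b hb u hu => B_conj_U hσ (hP.B ▸ hb) hu
      isPGroup := (Chev.isPGroup_pos hc (F := K) 2).of_injective
        (⟨⟨fun x => ⟨((x : ↥(G1 K m)) : GL chevF4.Idx K), x.2⟩, rfl⟩, fun _ _ => rfl⟩ :
          ↥(ReeF4Out.Uw K m) →* ↥(CfsgLib.ChevAut.Up chevF4 K))
        fun x y e => Subtype.ext (Subtype.ext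
          (congrArg (fun z : ↥(CfsgLib.ChevAut.Up chevF4 K) => z.1) e))
      split := by
        intro b hb
        rw [hP.B] at hb
        obtain ⟨u, hu, h, hh, e⟩ := B_split hσ hb
        exact ⟨u, hu, h, hP.B.symm ▸ hP.N.symm ▸ ⟨H_le_B hσ hh, H_le_N hσ hh⟩, e⟩
      coprime := by
        intro hd
        refine ChevAut.diagonal_card_coprime hc 2 (hd.trans (Subgroup.card_dvd_of_injective
          (⟨⟨fun x => ⟨((x : ↥(G1 K m)) : GL chevF4.Idx K), Subgroup.mem_subgroupOf.1 (Nw_inf_Bw hσ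
              (hP.B ▸ x.2.1) (hP.N ▸ x.2.2))⟩, rfl⟩, fun _ _ => rfl⟩ :
            ↥(P.B ⊓ P.N) →* ↥(chevF4.diagonalSubgroup K))
          fun x y e => Subtype.ext (Subtype.ext
            (congrArg (fun z : ↥(chevF4.diagonalSubgroup K) => z.1) e))))
      opposite := by
        refine ⟨n0 hσ, hP.N ▸ nProd_mem_monomial hc _, fun x hx hxB => ?_⟩
        exact conj_eq_one_iff.1 (B_inf_V hσ (hP.B ▸ hxB) ((n0_conj hσ).1.2 hx))
      simple := by
        intro s hs b hb x hx hsx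
        rw [hP.S] at hs
        obtain ⟨s, rfl⟩ := hs
        rw [hP.B] at hb hsx ⊢
        have hx' : (x : GL chevF4.Idx K) ∈ uGen chevF4 K PosR := Subgroup.mem_subgroupOf.1 hx
        obtain ⟨a, ha, c, hc', hac⟩ := uGen_split hc hcomm (closedPos_pos hc)
          (Q := InvRoot chevF4 tb (jl s)) (R := KeepRoot chevF4 tb (jl s))
          (fun r _ h => (Nat.lt_or_ge (sigs chevF4 tb (jl s) r) (chevF4.nroots / 2)).imp
            (fun g => ⟨h, g⟩) (fun g => ⟨h, g⟩)) hx'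
        have hkeep : ∀ g ∈ uGen chevF4 K (KeepRoot chevF4 tb (jl s)),
            nJ K s * g * (nJ K s)⁻¹ ∈ chevF4.borelSubgroup K := fun g hg =>
          pos_le_borel hc (conj_nProd_uGen _ (fun _ _ h => h.2) hg)
        have ha1 : a = 1 := by
          refine conj_eq_one_iff.1 (borel_inf_neg hc ?_
            (conj_nProd_uGen (jl s) (Q := fun r => r < chevF4.nroots / 2) (fun _ _ h => h.2) ha))
          have h0 : nJ K s * (a * c) * (nJ K s)⁻¹ ∈ chevF4.borelSubgroup K :=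
            hac ▸ (Subgroup.mem_subgroupOf.1 hsx :)
          have h1 := mul_mem h0 (inv_mem (hkeep c hc'))
          convert h1 using 1
          show nJ K s * a * (nJ K s)⁻¹ = _
          group
        rw [ha1, one_mul] at hac
        obtain ⟨u, hu, h, hh, rfl⟩ := B_split hσ hb
        refine Subgroup.mem_subgroupOf.2 ?_
        show nJ K s * ((u : GL chevF4.Idx K) * (h : GL chevF4.Idx K) * (x : GL chevF4.Idx K) *
          ((u : GL chevF4.Idx K) * (h : GL chevF4.Idx K))⁻¹) * (nJ K s)⁻¹ ∈ _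
        rw [hac]
        refine hkeep _ ?_
        have h1 := keep_normal hσ s (Subgroup.mem_subgroupOf.1 hu)
          (diag_conj_mem hc _ (Subgroup.mem_subgroupOf.1 hh) hc')
        convert h1 using 1
        group }
  refine allFull_of_isTI hti ?_
  intro J hJ ⟨x, hx⟩ ⟨y, hy, hyJ⟩
  obtain ⟨s, rfl⟩ : ∃ s, ng hσ s = x := by simpa [hP.S, eq_comm] using hJ hx
  obtain ⟨s', rfl⟩ : ∃ s, ng hσ s = y := by simpa [hP.S, eq_comm] using hy
  have hss : s' = !s := by
    rcases Bool.eq_or_eq_not s' s with e | e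
    · exact absurd (e ▸ hx) hyJ
    · exact e
  subst hss
  refine ⟨_, hx, _, ⟨hy, hyJ⟩, fun hmem => ?_⟩
  rw [hP.B] at hmem
  have hd := Nw_inf_Bw hσ hmem (mul_mem (mul_mem (mul_mem (ng_mem_N hσ s) (ng_mem_N hσ _))
    (inv_mem (ng_mem_N hσ s))) (inv_mem (ng_mem_N hσ _)))
  obtain ⟨r, hr⟩ := jl_not_commute s
  refine hr (sigs_eq_of_mem hc (F := K) ?_ r.2)
  rw [nProd_append, nProd_append, mul_inv_rev, ← mul_assoc]
  exact Subgroup.mem_subgroupOf.1 hd

theorem allFull_iso2F4 {G : Type u} [Group G] [Finite G] (hG : Lie.Iso2F4 G) : AllFull 2 G := by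
  haveI : Fact (Nat.Prime 2) := ⟨Nat.prime_two⟩
  obtain ⟨K, _, _, m, -, hK, ⟨e⟩⟩ := hG
  obtain ⟨σ, hσ⟩ := CfsgLib.ReeF4.exists_sigma hK
  exact (allFull_reeF4 hσ).of_mulEquiv e

end CfsgLib.DefectFull
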